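import Cfsg.Agent.H210.DoRes.Weights

/-!
# Counting weight spaces which are permuted by the alternating group (helper210)
-/

set_option autoImplicit false

namespace Cfsg.Agent.H210.DoRes

open Module Finset

section comb

variable {κ : Type*} [DecidableEq κ] [Fintype κ]

theorem exists_perm_map {J J' : Finset κ} (h : J.card = J'.card) :
    ∃ σ : Equiv.Perm κ, J.map σ.toEmbedding = J' := by
  classical
  have e : {x // x ∈ J} ≃ {x // x ∈ J'} := Finset.equivOfCardEq h
  refine ⟨e.extendSubtype, ?_⟩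
  apply Finset.eq_of_subset_of_card_le
  · intro y hy
    rw [Finset.mem_map] at hy
    obtain ⟨x, hx, rfl⟩ := hy
    exact Equiv.extendSubtype_mem e x hx
  · rw [Finset.card_map, h]

theorem exists_alt_map (h3 : 3 ≤ Fintype.card κ) {J J' : Finset κ} (h : J.card = J'.card) :
    ∃ σ ∈ alternatingGroup κ, J.map σ.toEmbedding = J' := by
  classical
  obtain ⟨σ, hσ⟩ := exists_perm_map h
  by_cases hs : σ ∈ alternatingGroup κ
  · exact ⟨σ, hs, hσ⟩
  have hs' : Equiv.Perm.sign σ = -1 := (Int.units_eq_one_or _).resolve_left hs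
  obtain ⟨a, b, hab, hJ⟩ : ∃ a b : κ, a ≠ b ∧ (a ∈ J' ↔ b ∈ J') := by
    by_cases hc : 1 < J'.card
    · obtain ⟨a, ha, b, hb, hab⟩ := Finset.one_lt_card.1 hc
      exact ⟨a, b, hab, by simp [ha, hb]⟩
    · have : 1 < (J'ᶜ).card := by
        rw [Finset.card_compl]; omega
      obtain ⟨a, ha, b, hb, hab⟩ := Finset.one_lt_card.1 this
      rw [Finset.mem_compl] at ha hb
      exact ⟨a, b, hab, by simp [ha, hb]⟩
  refine ⟨Equiv.swap a b * σ, ?_, ?_⟩
  · rw [Equiv.Perm.mem_alternatingGroup, map_mul, hs', Equiv.Perm.sign_swap hab]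
    rfl
  · ext y
    rw [← hσ, Finset.mem_map_equiv, Finset.mem_map_equiv]
    have h1 : ∀ z, (Equiv.swap a b z ∈ J' ↔ z ∈ J') := by
      intro z
      by_cases hza : z = a
      · rw [hza, Equiv.swap_apply_left]; exact hJ.symm
      · by_cases hzb : z = b
        · rw [hzb, Equiv.swap_apply_right]; exact hJ
        · rw [Equiv.swap_apply_of_ne_of_ne hza hzb]
    have h4 := h1 y
    rw [← hσ, Finset.mem_map_equiv, Finset.mem_map_equiv] at h4
    have h5 : (Equiv.swap a b * σ).symm y = σ.symm (Equiv.swap a b y) := by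
      rw [Equiv.symm_apply_eq]
      simp
    rw [h5]
    exact h4

/-- the alternating group is transitive on ordered pairs -/
theorem exists_alt_pair (h4 : 4 ≤ Fintype.card κ) {i j i' j' : κ} (hij : i ≠ j) (hij' : i' ≠ j') :
    ∃ σ ∈ alternatingGroup κ, σ i = i' ∧ σ j = j' := by
  classical
  obtain ⟨σ, h1, h3⟩ : ∃ σ : Equiv.Perm κ, σ i = i' ∧ σ j = j' := by
    refine ⟨Equiv.swap (Equiv.swap i i' j) j' * Equiv.swap i i', ?_, ?_⟩
    · rw [Equiv.Perm.mul_apply, Equiv.swap_apply_left, Equiv.swap_apply_of_ne_of_ne _ hij']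
      intro h
      have := congrArg (Equiv.swap i i') h
      rw [Equiv.swap_apply_right, Equiv.swap_apply_self] at this
      exact hij this
    · rw [Equiv.Perm.mul_apply, Equiv.swap_apply_left]
  by_cases hs : σ ∈ alternatingGroup κ
  · exact ⟨σ, hs, h1, h3⟩
  have hs' : Equiv.Perm.sign σ = -1 := (Int.units_eq_one_or _).resolve_left hs
  obtain ⟨a, b, hab, ha, hb⟩ : ∃ a b : κ, a ≠ b ∧ a ∉ ({i', j'} : Finset κ) ∧ b ∉ ({i', j'} : Finset κ) := by
    have : 1 < (({i', j'} : Finset κ)ᶜ).card := by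
      rw [Finset.card_compl, Finset.card_pair hij']; omega
    obtain ⟨a, ha, b, hb, hab⟩ := Finset.one_lt_card.1 this
    rw [Finset.mem_compl] at ha hb
    exact ⟨a, b, hab, ha, hb⟩
  simp only [Finset.mem_insert, Finset.mem_singleton, not_or] at ha hb
  refine ⟨Equiv.swap a b * σ, ?_, ?_, ?_⟩
  · rw [Equiv.Perm.mem_alternatingGroup, map_mul, hs', Equiv.Perm.sign_swap hab]
    rfl
  · rw [Equiv.Perm.mul_apply, h1, Equiv.swap_apply_of_ne_of_ne (Ne.symm ha.1) (Ne.symm hb.1)]
  · rw [Equiv.Perm.mul_apply, h3, Equiv.swap_apply_of_ne_of_ne (Ne.symm ha.2) (Ne.symm hb.2)]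

end comb

section count

variable {F V κ : Type*} [Field F] [AddCommGroup V] [Module F V]
  [DecidableEq κ] [Fintype κ] {c : κ → V →ₗ[F] V}

theorem finrank_W_of_card (h3 : 3 ≤ Fintype.card κ)
    (hg : ∀ σ ∈ alternatingGroup κ, ∃ g : V ≃ₗ[F] V, ∀ i v, g (c i v) = c (σ i) (g v))
    {J J' : Finset κ} (h : J.card = J'.card) : finrank F (W c J) = finrank F (W c J') := by
  obtain ⟨σ, hσ, rfl⟩ := exists_alt_map h3 h
  obtain ⟨g, hg⟩ := hg σ hσ
  exact finrank_W_eq (mem_W_perm hg J)

theorem choose_mul_le [FiniteDimensional F V] (h2 : (2 : F) ≠ 0) (hcc : ∀ i j v, c i (c j v) = c j (c i v)) (h3 : 3 ≤ Fintype.card κ)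
    (hg : ∀ σ ∈ alternatingGroup κ, ∃ g : V ≃ₗ[F] V, ∀ i v, g (c i v) = c (σ i) (g v))
    (J : Finset κ) : (Fintype.card κ).choose J.card * finrank F (W c J) ≤ finrank F V := by
  have h := sum_le h2 hcc (Finset.powersetCard J.card Finset.univ) ⊤ (fun _ _ => le_top)
  rw [finrank_top] at h
  refine le_trans (le_of_eq ?_) h
  rw [Finset.sum_congr rfl (fun K hK => finrank_W_of_card h3 hg (J' := J) (Finset.mem_powersetCard.1 hK).2),
    Finset.sum_const, Finset.card_powersetCard, Finset.card_univ, smul_eq_mul]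

theorem le_choose {n k : ℕ} (h1 : 1 ≤ k) (hk : k + 1 ≤ n) : n ≤ n.choose k := by
  induction n generalizing k with
  | zero => omega
  | succ n ih =>
    obtain ⟨k, rfl⟩ := Nat.exists_eq_add_of_le' h1
    rw [Nat.choose_succ_succ']
    rcases Nat.eq_or_lt_of_le hk with h | h
    · have : k + 1 = n := by omega
      subst this
      rw [Nat.choose_self, Nat.choose_succ_self_right]
    · rcases Nat.eq_zero_or_pos k with h0 | h0
      · subst h0
        simp
      · have h4 := ih (k := k) h0 (by omega)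
        have h5 : 1 ≤ n.choose (k + 1) := Nat.choose_pos (by omega)
        omega

theorem lt_choose_two {n k : ℕ} (hn : 5 ≤ n) (h1 : 2 ≤ k) (hk : k + 2 ≤ n) : n + 1 < n.choose k := by
  induction n, hn using Nat.le_induction generalizing k with
  | base =>
    have hk3 : k ≤ 3 := by omega
    interval_cases k <;> decide
  | succ n hn ih =>
    obtain ⟨k, rfl⟩ := Nat.exists_eq_add_of_le' h1
    rw [show k + 2 = (k + 1) + 1 by rfl, Nat.choose_succ_succ']
    rcases Nat.eq_or_lt_of_le hk with h | h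
    · have h6 : k + 1 + 1 ≤ n := by omega
      have h5 := ih (k := k + 1) (by omega) (by omega)
      have h4 : 1 ≤ n.choose (k + 1 + 1) := Nat.choose_pos h6
      omega
    · have h5 := ih (k := k + 2) (by omega) (by omega)
      have h4 : 1 ≤ n.choose (k + 1) := Nat.choose_pos (by omega)
      have : n.choose (k + 2) = n.choose (k + 1 + 1) := rfl
      omega

end count

end Cfsg.Agent.H210.DoRes
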