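import Cfsg.Agent.LieClassical.OrthFourCommon

/-!
# `Ω` of the form `Σ v_i²`: coordinate elements and generation by stabilisers (helper210)
-/

set_option autoImplicit false
set_option linter.unusedSectionVars false

namespace Cfsg.Agent.H210.DoRes

open Module
open scoped commutatorElement Matrix
open Cfsg.Agent.LieClassical.OrthFourCommon

section omgrp

variable {K κ : Type} [Field K] [Fintype κ]

/-- the form `Σ v_i²` -/
abbrev QS (K κ : Type) [Field K] [Fintype κ] : (κ → K) → K := fun v => ∑ i, v i ^ 2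

theorem QS_eq (v : κ → K) : QS K κ v = v ⬝ᵥ v := by
  simp [QS, dotProduct, pow_two]

/-- the isometry group -/
abbrev IG (K κ : Type) [Field K] [Fintype κ] : Type := ↥(isom (QS K κ))

instance instCoeFunIG : CoeFun (IG K κ) (fun _ => (κ → K) → (κ → K)) := ⟨fun g => (g : (κ → K) ≃ₗ[K] (κ → K))⟩

theorem IG_ext {g k : IG K κ} (h : ∀ v, g v = k v) : g = k := Subtype.ext (LinearEquiv.ext h)

theorem IG_mul (g k : IG K κ) (v : κ → K) : (g * k) v = g (k v) := rfl

theorem IG_one (v : κ → K) : (1 : IG K κ) v = v := rfl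

theorem IG_inv_apply (g : IG K κ) (v : κ → K) : g⁻¹ (g v) = v := by rw [← IG_mul, inv_mul_cancel, IG_one]

theorem IG_apply_inv (g : IG K κ) (v : κ → K) : g (g⁻¹ v) = v := by rw [← IG_mul, mul_inv_cancel, IG_one]

theorem IG_dot (h2 : (2 : K) ≠ 0) (g : IG K κ) (u v : κ → K) : g u ⬝ᵥ g v = u ⬝ᵥ v := by
  have h := g.2 (u + v)
  have hu := g.2 u
  have hv := g.2 v
  rw [map_add, QS_eq, QS_eq, add_dotProduct, dotProduct_add, dotProduct_add, add_dotProduct, dotProduct_add,
    dotProduct_add] at h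
  rw [QS_eq, QS_eq] at hu hv
  have e : (2 : K) * (g u ⬝ᵥ g v) = 2 * (u ⬝ᵥ v) := by
    have c1 := dotProduct_comm (g v) (g u)
    have c2 := dotProduct_comm v u
    linear_combination h - hu - hv - c1 + c2
  exact mul_left_cancel₀ h2 e

/-- the functional of a reflection -/
noncomputable def fw (w : κ → K) : Module.Dual K (κ → K) where
  toFun v := 2 * (v ⬝ᵥ w) / (w ⬝ᵥ w)
  map_add' u v := by rw [add_dotProduct]; ring
  map_smul' a v := by rw [smul_dotProduct, smul_eq_mul, RingHom.id_apply, smul_eq_mul]; ring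

/-- reflection -/
noncomputable def rr (w : κ → K) : (κ → K) ≃ₗ[K] (κ → K) :=
  open Classical in
  if h : w ⬝ᵥ w ≠ 0 then Module.reflection (x := w) (f := fw w) (by
    show 2 * (w ⬝ᵥ w) / (w ⬝ᵥ w) = 2
    field_simp) else 1

theorem rr_apply (w v : κ → K) : rr w v = v - (2 * (v ⬝ᵥ w) / (w ⬝ᵥ w)) • w := by
  unfold rr
  split_ifs with h
  · rw [Module.reflection_apply]; rfl
  · rw [not_not] at h
    rw [h, div_zero, zero_smul, sub_zero]; rfl

theorem rr_mem (w : κ → K) : rr w ∈ isom (QS K κ) := by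
  intro v
  rw [QS_eq, QS_eq, rr_apply]
  by_cases h : w ⬝ᵥ w = 0
  · rw [h, div_zero, zero_smul, sub_zero]
  · simp only [sub_dotProduct, dotProduct_sub, smul_dotProduct, dotProduct_smul, smul_eq_mul]
    rw [dotProduct_comm w v]
    field_simp
    ring

/-- reflection as an isometry -/
noncomputable def rI (w : κ → K) : IG K κ := ⟨rr w, rr_mem w⟩

theorem rI_apply (w v : κ → K) : rI w v = v - (2 * (v ⬝ᵥ w) / (w ⬝ᵥ w)) • w := rr_apply w v

theorem rI_fix {w v : κ → K} (h : v ⬝ᵥ w = 0) : rI w v = v := by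
  rw [rI_apply, h, mul_zero, zero_div, zero_smul, sub_zero]

theorem rI_self {w : κ → K} (h : w ⬝ᵥ w ≠ 0) : rI w w = -w := by
  rw [rI_apply, mul_div_assoc, div_self h, mul_one, two_smul]; abel

theorem rI_sq (w : κ → K) : rI w * rI w = 1 := by
  refine IG_ext fun v => ?_
  rw [IG_mul, IG_one, rI_apply, rI_apply]
  by_cases h : w ⬝ᵥ w = 0
  · rw [h, div_zero, div_zero, zero_smul, sub_zero, sub_zero]
  · rw [sub_dotProduct, smul_dotProduct, smul_eq_mul]
    have : 2 * (v ⬝ᵥ w - 2 * (v ⬝ᵥ w) / (w ⬝ᵥ w) * (w ⬝ᵥ w)) / (w ⬝ᵥ w) = -(2 * (v ⬝ᵥ w) / (w ⬝ᵥ w)) := by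
      field_simp
      ring
    rw [this, neg_smul, sub_neg_eq_add, sub_add_cancel]

theorem rI_neg (w : κ → K) : rI (-w) = rI w := by
  refine IG_ext fun v => ?_
  rw [rI_apply, rI_apply, dotProduct_neg, neg_dotProduct_neg, smul_neg, mul_neg, neg_div, neg_smul, neg_neg]

theorem rI_conj (h2 : (2 : K) ≠ 0) (g : IG K κ) (w : κ → K) : g * rI w * g⁻¹ = rI (g w) := by
  refine IG_ext fun v => ?_
  rw [IG_mul, IG_mul, rI_apply, rI_apply, map_sub, map_smul, IG_apply_inv]
  have e : (g⁻¹ v) ⬝ᵥ w = v ⬝ᵥ g w := by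
    rw [← IG_dot h2 g, IG_apply_inv]
  rw [e, IG_dot h2]

theorem rI_move {a b : κ → K} (hab : a ⬝ᵥ a = b ⬝ᵥ b) (h : (a - b) ⬝ᵥ (a - b) ≠ 0) : rI (a - b) a = b := by
  rw [rI_apply]
  have e : (a - b) ⬝ᵥ (a - b) = 2 * (a ⬝ᵥ (a - b)) := by
    simp only [sub_dotProduct, dotProduct_sub]
    rw [dotProduct_comm b a, ← hab]; ring
  rw [← e, div_self h, one_smul]; abel

/-- the class in the abelianization -/
theorem of_sq (w : κ → K) : Abelianization.of (rI w) * Abelianization.of (rI w) = 1 := by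
  rw [← map_mul, rI_sq, map_one]

theorem sum_diff (h2 : (2 : K) ≠ 0) {a b : κ → K} (hab : a ⬝ᵥ a = b ⬝ᵥ b) (ha : a ⬝ᵥ a ≠ 0) :
    (a - b) ⬝ᵥ (a - b) ≠ 0 ∨ (a + b) ⬝ᵥ (a + b) ≠ 0 := by
  by_contra hcon
  push Not at hcon
  have e : (a - b) ⬝ᵥ (a - b) + (a + b) ⬝ᵥ (a + b) = 2 * 2 * (a ⬝ᵥ a) := by
    simp only [sub_dotProduct, dotProduct_sub, add_dotProduct, dotProduct_add]
    rw [← hab]; ring
  rw [hcon.1, hcon.2, add_zero] at e
  exact mul_ne_zero (mul_ne_zero h2 h2) ha e.symm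

theorem of_eq (h2 : (2 : K) ≠ 0) {a b : κ → K} (hab : a ⬝ᵥ a = b ⬝ᵥ b) (ha : a ⬝ᵥ a ≠ 0) :
    Abelianization.of (rI a) = Abelianization.of (rI b) := by
  have key : ∀ b : κ → K, a ⬝ᵥ a = b ⬝ᵥ b → (a - b) ⬝ᵥ (a - b) ≠ 0 →
      Abelianization.of (rI a) = Abelianization.of (rI b) := by
    intro b hab h
    rw [← rI_move hab h, ← rI_conj h2, map_mul, map_mul, map_inv, mul_comm (Abelianization.of (rI (a - b))),
      mul_inv_cancel_right]
  rcases sum_diff h2 hab ha with h | h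
  · exact key b hab h
  · rw [← rI_neg b]
    exact key (-b) (by rw [neg_dotProduct_neg, hab]) (by rwa [sub_neg_eq_add])

theorem mem_comm_iff (g : IG K κ) : g ∈ commutator (IG K κ) ↔ Abelianization.of g = 1 := by
  rw [← MonoidHom.mem_ker, Abelianization.ker_of]

end omgrp

section coord

variable {K κ : Type} [Field K] [Fintype κ] [DecidableEq κ]

/-- coordinate vector -/
abbrev ee (K : Type) [Field K] {κ : Type} [DecidableEq κ] (i : κ) : κ → K := Pi.single i 1

omit [Fintype κ] in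
theorem ee_apply (i k : κ) : ee K i k = if k = i then 1 else 0 := Pi.single_apply ..

theorem dot_ee (v : κ → K) (i : κ) : v ⬝ᵥ ee K i = v i := by
  rw [dotProduct_single, mul_one]

theorem ee_dot (v : κ → K) (i : κ) : ee K i ⬝ᵥ v = v i := by
  rw [single_dotProduct, one_mul]

theorem ee_ee (i : κ) : ee K i ⬝ᵥ ee K i = 1 := by
  rw [dot_ee]; exact Pi.single_eq_same i 1

theorem rI_ee (i : κ) (v : κ → K) (k : κ) : rI (ee K i) v k = if k = i then - v k else v k := by
  rw [rI_apply, dot_ee, ee_ee, div_one, Pi.sub_apply, Pi.smul_apply, smul_eq_mul, ee_apply]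
  by_cases h : k = i
  · subst h
    rw [if_pos rfl, if_pos rfl]; ring
  · rw [if_neg h, if_neg h]; ring

/-- `-1` -/
def nI : IG K κ := ⟨LinearEquiv.neg K, fun v => by
  rw [QS_eq, QS_eq]; show (-v) ⬝ᵥ (-v) = _; rw [neg_dotProduct_neg]⟩

theorem nI_apply (v : κ → K) : (nI : IG K κ) v = -v := rfl

theorem nI_sq : (nI : IG K κ) * nI = 1 := IG_ext fun v => by rw [IG_mul, nI_apply, nI_apply, neg_neg, IG_one]

theorem nI_comm (g : IG K κ) : Commute nI g := IG_ext fun v => by
  rw [IG_mul, IG_mul, nI_apply, nI_apply, map_neg]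

/-- `-1` times the reflection in a coordinate vector -/
noncomputable def sI (i : κ) : IG K κ := nI * rI (ee K i)

/-- permutation matrices -/
def pI (K κ : Type) [Field K] [Fintype κ] : Equiv.Perm κ →* IG K κ where
  toFun σ := ⟨LinearEquiv.funCongrLeft K K σ⁻¹, fun v => by
    show ∑ i, v (σ⁻¹ i) ^ 2 = ∑ i, v i ^ 2
    exact Equiv.sum_comp σ⁻¹ fun i => v i ^ 2⟩
  map_one' := IG_ext fun v => rfl
  map_mul' σ τ := IG_ext fun v => rfl

theorem pI_apply (σ : Equiv.Perm κ) (v : κ → K) (i : κ) : pI K κ σ v i = v (σ⁻¹ i) := rfl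

theorem pI_ee (σ : Equiv.Perm κ) (i : κ) : pI K κ σ (ee K i) = ee K (σ i) := by
  funext k
  rw [pI_apply, ee_apply, ee_apply]
  by_cases h : k = σ i
  · rw [if_pos h, if_pos (by rw [h]; simp)]
  · rw [if_neg h, if_neg (fun h' => h (by rw [← h']; simp))]

theorem list_refl (L : List κ) (hL : L.Nodup) (v : κ → K) (k : κ) :
    (L.map fun i => rI (ee K i)).prod v k = if k ∈ L then - v k else v k := by
  induction L with
  | nil => simp
  | cons i L ih =>
    rw [List.nodup_cons] at hL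
    rw [List.map_cons, List.prod_cons, IG_mul, rI_ee, ih hL.2]
    by_cases h : k = i
    · subst h
      rw [if_pos rfl, if_neg hL.1, if_pos (by simp)]
    · rw [if_neg h]
      by_cases h' : k ∈ L
      · rw [if_pos h', if_pos (by simp [h'])]
      · rw [if_neg h', if_neg (by simp [h', h])]

theorem list_refl_univ :
    ((Finset.univ : Finset κ).toList.map fun i => rI (ee K i)).prod = nI := by
  refine IG_ext fun v => funext fun k => ?_
  rw [list_refl _ (Finset.nodup_toList _), if_pos (by simp), nI_apply]; rfl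

theorem list_sI (L : List κ) : (L.map fun i => (sI i : IG K κ)).prod = nI ^ L.length * (L.map fun i => rI (ee K i)).prod := by
  induction L with
  | nil => simp
  | cons i L ih =>
    rw [List.map_cons, List.prod_cons, ih, List.map_cons, List.prod_cons, List.length_cons, pow_succ', sI]
    have := (nI_comm (rI (ee K i))).pow_left L.length
    calc nI * rI (ee K i) * (nI ^ L.length * (L.map fun i => rI (ee K i)).prod)
        = nI * (rI (ee K i) * nI ^ L.length) * (L.map fun i => rI (ee K i)).prod := by simp only [mul_assoc]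
      _ = _ := by rw [← this.eq]; simp only [mul_assoc]

theorem list_sI_univ (ho : Odd (Fintype.card κ)) :
    ((Finset.univ : Finset κ).toList.map fun i => (sI i : IG K κ)).prod = 1 := by
  rw [list_sI, list_refl_univ, Finset.length_toList, Finset.card_univ, ← pow_succ]
  obtain ⟨m, hm⟩ := ho
  rw [hm, show 2 * m + 1 + 1 = 2 * (m + 1) by ring, pow_mul, pow_two, nI_sq, one_pow]

theorem sI_sq (i : κ) : (sI i : IG K κ) * sI i = 1 := by
  have := (nI_comm (rI (ee K i)))
  rw [sI]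
  calc nI * rI (ee K i) * (nI * rI (ee K i)) = nI * (rI (ee K i) * nI) * rI (ee K i) := by simp only [mul_assoc]
    _ = (nI * nI) * (rI (ee K i) * rI (ee K i)) := by rw [← this.eq]; simp only [mul_assoc]
    _ = 1 := by rw [nI_sq, rI_sq, one_mul]

theorem sI_comm (i j : κ) : Commute (sI i : IG K κ) (sI j) := by
  have hr : Commute (rI (ee K i)) (rI (ee K j)) := by
    refine IG_ext fun v => funext fun k => ?_
    rw [IG_mul, IG_mul, rI_ee, rI_ee, rI_ee, rI_ee]
    split_ifs <;> rfl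
  exact ((nI_comm _).mul_right (nI_comm _)).mul_left ((nI_comm _).symm.mul_right hr)

theorem sI_conj (h2 : (2 : K) ≠ 0) (g : IG K κ) {i j : κ} (h : g (ee K i) = ee K j) : g * sI i * g⁻¹ = sI j := by
  rw [sI, sI, ← h, ← rI_conj h2, ← mul_assoc g, ← (nI_comm g).eq]
  simp only [mul_assoc]

theorem sI_mem (h2 : (2 : K) ≠ 0) (ho : Odd (Fintype.card κ)) (i : κ) : (sI i : IG K κ) ∈ commutator (IG K κ) := by
  rw [mem_comm_iff]
  have key : ∀ L : List κ, Abelianization.of (L.map fun j => (rI (ee K j) : IG K κ)).prod =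
      Abelianization.of (rI (ee K i)) ^ L.length := by
    intro L
    induction L with
    | nil => simp
    | cons j L ih =>
      rw [List.map_cons, List.prod_cons, map_mul, ih, List.length_cons, pow_succ',
        of_eq h2 (b := ee K i) (by rw [ee_ee, ee_ee]) (by rw [ee_ee]; exact one_ne_zero)]
  have h := key (Finset.univ : Finset κ).toList
  rw [list_refl_univ, Finset.length_toList, Finset.card_univ] at h
  rw [sI, map_mul, h, ← pow_succ]
  obtain ⟨m, hm⟩ := ho
  rw [hm, show 2 * m + 1 + 1 = 2 * (m + 1) by ring, pow_mul, pow_two, of_sq, one_pow]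

theorem pI_mem (h5 : 5 ≤ Fintype.card κ) {σ : Equiv.Perm κ} (hσ : σ ∈ alternatingGroup κ) :
    pI K κ σ ∈ commutator (IG K κ) := by
  rw [← alternatingGroup.commutator_perm_eq (by rwa [Nat.card_eq_fintype_card])] at hσ
  have h1 : (commutator (Equiv.Perm κ)).map (pI K κ) ≤ commutator (IG K κ) := by
    rw [commutator_def, commutator_def, Subgroup.map_commutator]
    exact Subgroup.commutator_mono le_top le_top
  exact h1 (Subgroup.mem_map_of_mem _ hσ)

end coord

section transit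

variable {K κ : Type} [Field K] [Fintype K] [Fintype κ] [DecidableEq κ]

theorem exists_binary (h2 : (2 : K) ≠ 0) {A B : K} (hA : A ≠ 0) (hB : B ≠ 0) (N : K) :
    ∃ α β : K, A * α ^ 2 + B * β ^ 2 = N := by
  have hodd : Fintype.card K % 2 = 1 := by
    have := FiniteField.odd_card_of_char_ne_two (F := K) (fun h => h2 (by
      have := CharP.cast_eq_zero K (ringChar K)
      rw [h] at this
      exact_mod_cast this))
    exact this
  open Polynomial in
  obtain ⟨a, b, hab⟩ := FiniteField.exists_root_sum_quadratic (R := K) (f := C A * X ^ 2 + C 0 * X + C (-N))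
    (g := C B * X ^ 2 + C 0 * X + C 0) (degree_quadratic hA) (degree_quadratic hB) hodd
  refine ⟨a, b, ?_⟩
  simp at hab
  linear_combination hab

theorem exists_two_sq (h2 : (2 : K) ≠ 0) (N : K) : ∃ α β : K, α ^ 2 + β ^ 2 = N := by
  obtain ⟨α, β, h⟩ := exists_binary h2 (one_ne_zero (α := K)) one_ne_zero N
  exact ⟨α, β, by rw [← h]; ring⟩

/-- six coordinates: a vector of norm `1` orthogonal to a given one -/
theorem exists_six (h2 : (2 : K) ≠ 0) (u : Fin 6 → K) : ∃ w : Fin 6 → K, w ⬝ᵥ w = 1 ∧ w ⬝ᵥ u = 0 := by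
  -- reduction to four coordinates given by two pairs
  have four : ∀ a b c d : K, (a = 0 ∧ b = 0) ∨ (c = 0 ∧ d = 0) ∨ (a ^ 2 + b ^ 2 ≠ 0 ∧ c ^ 2 + d ^ 2 ≠ 0) ∨
      ((a ^ 2 + b ^ 2 = 0 ∧ a ≠ 0) ∧ (c ^ 2 + d ^ 2 = 0 ∧ c ≠ 0)) →
      ∃ x y z t : K, x ^ 2 + y ^ 2 + z ^ 2 + t ^ 2 = 1 ∧ x * a + y * b + z * c + t * d = 0 := by
    rintro a b c d (⟨rfl, rfl⟩ | ⟨rfl, rfl⟩ | ⟨h, h'⟩ | ⟨⟨h, ha⟩, h', hc⟩)
    · exact ⟨1, 0, 0, 0, by ring, by ring⟩
    · exact ⟨0, 0, 1, 0, by ring, by ring⟩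
    · obtain ⟨α, β, e⟩ := exists_binary h2 h h' 1
      exact ⟨-b * α, a * α, -d * β, c * β, by rw [← e]; ring, by ring⟩
    · have hb : b ≠ 0 := by
        rintro rfl
        apply ha
        have : a ^ 2 = 0 := by linear_combination h
        exact pow_eq_zero_iff (two_ne_zero) |>.1 this
      have hd : d ≠ 0 := by
        rintro rfl
        apply hc
        have : c ^ 2 = 0 := by linear_combination h'
        exact pow_eq_zero_iff (two_ne_zero) |>.1 this
      -- `ε = b / a`, `δ = d / c`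
      refine ⟨(c + 1 / c) / 2, (c - 1 / c) / (2 * (b / a)), -a / 2, -a / (2 * (d / c)), ?_, ?_⟩
      · have e1 : b ^ 2 = - a ^ 2 := by linear_combination h
        have e2 : d ^ 2 = - c ^ 2 := by linear_combination h'
        have e3 : ((c - 1 / c) / (2 * (b / a))) ^ 2 = - ((c - 1 / c) / 2) ^ 2 := by
          rw [div_pow, mul_pow, div_pow b a, e1]
          field_simp
        have e4 : (-a / (2 * (d / c))) ^ 2 = - (a / 2) ^ 2 := by
          rw [div_pow, mul_pow, div_pow d c, e2]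
          field_simp
        rw [e3, e4]
        field_simp
        ring
      · have e1 : (c - 1 / c) / (2 * (b / a)) * b = (c - 1 / c) * a / 2 := by field_simp
        have e2 : -a / (2 * (d / c)) * d = - a * c / 2 := by field_simp
        rw [e1, e2]
        field_simp
        ring
  -- classify the pairs
  have cls : ∀ a b : K, (a = 0 ∧ b = 0) ∨ a ^ 2 + b ^ 2 ≠ 0 ∨ (a ^ 2 + b ^ 2 = 0 ∧ a ≠ 0) := by
    intro a b
    by_cases h : a ^ 2 + b ^ 2 = 0
    · by_cases ha : a = 0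
      · left
        refine ⟨ha, ?_⟩
        rw [ha] at h
        have : b ^ 2 = 0 := by linear_combination h
        exact pow_eq_zero_iff (two_ne_zero) |>.1 this
      · exact Or.inr (Or.inr ⟨h, ha⟩)
    · exact Or.inr (Or.inl h)
  have fin : (∃ x y z t : K, x ^ 2 + y ^ 2 + z ^ 2 + t ^ 2 = 1 ∧ x * u 0 + y * u 1 + z * u 2 + t * u 3 = 0) ∨
      (∃ x y z t : K, x ^ 2 + y ^ 2 + z ^ 2 + t ^ 2 = 1 ∧ x * u 0 + y * u 1 + z * u 4 + t * u 5 = 0) ∨
      (∃ x y z t : K, x ^ 2 + y ^ 2 + z ^ 2 + t ^ 2 = 1 ∧ x * u 2 + y * u 3 + z * u 4 + t * u 5 = 0) := by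
    rcases cls (u 0) (u 1) with h0 | h0 | h0
    · exact Or.inl (four _ _ _ _ (Or.inl h0))
    · rcases cls (u 2) (u 3) with h1 | h1 | h1
      · exact Or.inl (four _ _ _ _ (Or.inr (Or.inl h1)))
      · exact Or.inl (four _ _ _ _ (Or.inr (Or.inr (Or.inl ⟨h0, h1⟩))))
      · rcases cls (u 4) (u 5) with h3 | h3 | h3
        · exact Or.inr (Or.inl (four _ _ _ _ (Or.inr (Or.inl h3))))
        · exact Or.inr (Or.inl (four _ _ _ _ (Or.inr (Or.inr (Or.inl ⟨h0, h3⟩)))))
        · exact Or.inr (Or.inr (four _ _ _ _ (Or.inr (Or.inr (Or.inr ⟨h1, h3⟩)))))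
    · rcases cls (u 2) (u 3) with h1 | h1 | h1
      · exact Or.inl (four _ _ _ _ (Or.inr (Or.inl h1)))
      · rcases cls (u 4) (u 5) with h3 | h3 | h3
        · exact Or.inr (Or.inl (four _ _ _ _ (Or.inr (Or.inl h3))))
        · exact Or.inr (Or.inr (four _ _ _ _ (Or.inr (Or.inr (Or.inl ⟨h1, h3⟩)))))
        · exact Or.inr (Or.inl (four _ _ _ _ (Or.inr (Or.inr (Or.inr ⟨h0, h3⟩)))))
      · exact Or.inl (four _ _ _ _ (Or.inr (Or.inr (Or.inr ⟨h0, h1⟩))))
  rcases fin with ⟨x, y, z, t, h, h'⟩ | ⟨x, y, z, t, h, h'⟩ | ⟨x, y, z, t, h, h'⟩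
  · refine ⟨![x, y, z, t, 0, 0], ?_, ?_⟩
    · simp [dotProduct, Fin.sum_univ_succ]; linear_combination h
    · simp [dotProduct, Fin.sum_univ_succ]; linear_combination h'
  · refine ⟨![x, y, 0, 0, z, t], ?_, ?_⟩
    · simp [dotProduct, Fin.sum_univ_succ]; linear_combination h
    · simp [dotProduct, Fin.sum_univ_succ]; linear_combination h'
  · refine ⟨![0, 0, x, y, z, t], ?_, ?_⟩
    · simp [dotProduct, Fin.sum_univ_succ]; linear_combination h
    · simp [dotProduct, Fin.sum_univ_succ]; linear_combination h'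

/-- a vector of norm `1` orthogonal to a given one, supported outside `I` -/
theorem exists_perp (h2 : (2 : K) ≠ 0) (I : Finset κ) (hI : I.card + 6 ≤ Fintype.card κ) (u : κ → K) :
    ∃ w : κ → K, w ⬝ᵥ w = 1 ∧ w ⬝ᵥ u = 0 ∧ ∀ i ∈ I, w i = 0 := by
  obtain ⟨e⟩ : Nonempty (Fin 6 ↪ {i // i ∉ I}) := by
    rw [Function.Embedding.nonempty_iff_card_le]
    simp only [Fintype.card_fin, Fintype.card_subtype_compl, Fintype.card_coe]
    omega
  obtain ⟨w, h1, h3⟩ := exists_six h2 (fun j => u (e j))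
  have einj : Function.Injective (fun j => (e j : κ)) := Subtype.val_injective.comp e.injective
  have hext : ∀ j, Function.extend (fun j => (e j : κ)) w 0 (e j : κ) = w j := fun j =>
    einj.extend_apply w 0 j
  refine ⟨Function.extend (fun j => (e j : κ)) w 0, ?_, ?_, ?_⟩
  · rw [← h1]
    refine (Fintype.sum_of_injective _ einj _ _ (fun i hi => ?_) (fun j => ?_)).symm
    · rw [Function.extend_apply' _ _ _ (fun ⟨j, hj⟩ => hi ⟨j, hj⟩)]; simp
    · rw [hext]
  · rw [← h3]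
    refine (Fintype.sum_of_injective _ einj _ _ (fun i hi => ?_) (fun j => ?_)).symm
    · rw [Function.extend_apply' _ _ _ (fun ⟨j, hj⟩ => hi ⟨j, hj⟩)]; simp
    · rw [hext]
  · intro i hi
    rw [Function.extend_apply' _ _ _ (fun ⟨j, hj⟩ => (e j).2 (hj ▸ hi))]; rfl

/-- transitivity of the stabiliser of coordinate vectors -/
theorem exists_move (h2 : (2 : K) ≠ 0) (I : Finset κ) {k : κ} (hk : k ∉ I) (hI : I.card + 3 ≤ Fintype.card κ)
    {y : κ → K} (hy : y ⬝ᵥ y = 1) (hyI : ∀ i ∈ I, y i = 0) :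
    ∃ g : IG K κ, g ∈ commutator (IG K κ) ∧ (∀ i ∈ I, g (ee K i) = ee K i) ∧ g (ee K k) = y := by
  obtain ⟨a, ha, b, hb, hab⟩ := Finset.one_lt_card.1 (show 1 < ((insert k I)ᶜ).card by
    rw [Finset.card_compl, Finset.card_insert_of_notMem hk]; omega)
  rw [Finset.mem_compl, Finset.mem_insert, not_or] at ha hb
  -- vectors of arbitrary norm orthogonal to everything
  have hx : ∀ N : K, ∃ x : κ → K, x ⬝ᵥ x = N ∧ x k = 0 ∧ ∀ i ∈ I, x i = 0 := by
    intro N
    obtain ⟨α, β, h⟩ := exists_two_sq h2 N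
    refine ⟨α • ee K a + β • ee K b, ?_, ?_, ?_⟩
    · simp only [dotProduct_add, dotProduct_smul, smul_eq_mul, dot_ee, Pi.add_apply, Pi.smul_apply, ee_apply,
        if_neg hab, if_neg hab.symm, if_true]
      rw [← h]; ring
    · simp only [Pi.add_apply, Pi.smul_apply, smul_eq_mul, ee_apply, if_neg (Ne.symm ha.1), if_neg (Ne.symm hb.1)]
      ring
    · intro i hi
      have hia : i ≠ a := fun h => ha.2 (h ▸ hi)
      have hib : i ≠ b := fun h => hb.2 (h ▸ hi)
      simp only [Pi.add_apply, Pi.smul_apply, smul_eq_mul, ee_apply, if_neg hia, if_neg hib]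
      ring
  have fixx : ∀ (x : κ → K) (i : κ), x i = 0 → rI x (ee K i) = ee K i := fun x i h =>
    rI_fix (by rw [ee_dot, h])
  have hki : ∀ i ∈ I, i ≠ k := fun i hi h => hk (h ▸ hi)
  have e1 : ee K k ⬝ᵥ ee K k = y ⬝ᵥ y := by rw [ee_ee, hy]
  rcases sum_diff h2 e1 (by rw [ee_ee]; exact one_ne_zero) with h | h
  · obtain ⟨x, hx1, hxk, hxI⟩ := hx ((ee K k - y) ⬝ᵥ (ee K k - y))
    refine ⟨rI (ee K k - y) * rI x, ?_, fun i hi => ?_, ?_⟩
    · rw [mem_comm_iff, map_mul, of_eq h2 hx1 (by rwa [hx1]), of_sq]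
    · rw [IG_mul, fixx x i (hxI i hi), fixx _ i]
      rw [Pi.sub_apply, ee_apply, if_neg (hki i hi), hyI i hi, sub_zero]
    · rw [IG_mul, fixx x k hxk, rI_move e1 h]
  · obtain ⟨x, hx1, hxk, hxI⟩ := hx ((ee K k + y) ⬝ᵥ (ee K k + y))
    obtain ⟨x', hx1', hxk', hxI'⟩ := hx 1
    refine ⟨rI y * rI (ee K k + y) * (rI x' * rI x), ?_, fun i hi => ?_, ?_⟩
    · rw [mem_comm_iff, map_mul, map_mul, map_mul, of_eq h2 hx1 (by rwa [hx1]),
        of_eq h2 (hx1'.trans hy.symm) (by rw [hx1']; exact one_ne_zero), mul_mul_mul_comm, of_sq, of_sq, one_mul]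
    · rw [IG_mul, IG_mul, IG_mul, fixx x i (hxI i hi), fixx x' i (hxI' i hi), fixx (ee K k + y) i, fixx y i (hyI i hi)]
      rw [Pi.add_apply, ee_apply, if_neg (hki i hi), hyI i hi, add_zero]
    · rw [IG_mul, IG_mul, IG_mul, fixx x k hxk, fixx x' k hxk']
      have e3 : rI (ee K k + y) (ee K k) = - y := by
        have := rI_move (a := ee K k) (b := -y) (by rw [neg_dotProduct_neg, e1]) (by rwa [sub_neg_eq_add])
        rwa [sub_neg_eq_add] at this
      rw [e3, map_neg, rI_self (by rw [hy]; exact one_ne_zero), neg_neg]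

/-- the inductive step of the generation theorem -/
theorem gen_step (h2 : (2 : K) ≠ 0) (I : Finset κ) (hI : I.card + 7 ≤ Fintype.card κ)
    (M : Subgroup (IG K κ)) {a b : κ} (hab : a ≠ b) (ha : a ∉ I) (hb : b ∉ I)
    (hMa : ∀ g ∈ commutator (IG K κ), (∀ i ∈ I, g (ee K i) = ee K i) → g (ee K a) = ee K a → g ∈ M)
    (hMb : ∀ g ∈ commutator (IG K κ), (∀ i ∈ I, g (ee K i) = ee K i) → g (ee K b) = ee K b → g ∈ M) :
    ∀ g ∈ commutator (IG K κ), (∀ i ∈ I, g (ee K i) = ee K i) → g ∈ M := by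
  intro s hs hsI
  set Ω := commutator (IG K κ) with hΩ
  have inv_fix : ∀ {g : IG K κ} {v : κ → K}, g v = v → g⁻¹ v = v := fun {g v} h => by
    nth_rw 1 [← h]; rw [IG_inv_apply]
  obtain ⟨w, hw1, hwu, hwI⟩ := exists_perp h2 (insert a I) (by rw [Finset.card_insert_of_notMem ha]; omega)
    (s (ee K a))
  obtain ⟨t1, ht1, ht1I, ht1b⟩ := exists_move h2 (insert a I) (k := b) (by
    rw [Finset.mem_insert, not_or]; exact ⟨hab.symm, hb⟩) (by rw [Finset.card_insert_of_notMem ha]; omega) hw1 hwI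
  have m1 : t1 ∈ M := hMa t1 ht1 (fun i hi => ht1I i (Finset.mem_insert_of_mem hi)) (ht1I a (Finset.mem_insert_self _ _))
  set s1 := t1⁻¹ * s with hs1
  have hs1Ω : s1 ∈ Ω := Ω.mul_mem (Ω.inv_mem ht1) hs
  have hs1I : ∀ i ∈ I, s1 (ee K i) = ee K i := fun i hi => by
    rw [hs1, IG_mul, hsI i hi]
    exact inv_fix (ht1I i (Finset.mem_insert_of_mem hi))
  -- `y = s1 e_a`
  have hyb : s1 (ee K a) b = 0 := by
    rw [← dot_ee (s1 (ee K a)) b, hs1, IG_mul]
    have : ee K b = t1⁻¹ w := by rw [← ht1b, IG_inv_apply]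
    rw [this, IG_dot h2, dotProduct_comm]
    exact hwu
  have hy1 : s1 (ee K a) ⬝ᵥ s1 (ee K a) = 1 := by rw [IG_dot h2, ee_ee]
  have hyI : ∀ i ∈ insert b I, s1 (ee K a) i = 0 := by
    intro i hi
    rw [Finset.mem_insert] at hi
    rcases hi with rfl | hi
    · exact hyb
    · rw [← dot_ee (s1 (ee K a)) i]
      rw [← hs1I i hi]
      rw [IG_dot h2, dot_ee, ee_apply, if_neg (fun h : i = a => ha (h ▸ hi))]
  obtain ⟨t2, ht2, ht2I, ht2a⟩ := exists_move h2 (insert b I) (k := a) (by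
    rw [Finset.mem_insert, not_or]; exact ⟨hab, ha⟩) (by rw [Finset.card_insert_of_notMem hb]; omega) hy1 hyI
  have m2 : t2 ∈ M := hMb t2 ht2 (fun i hi => ht2I i (Finset.mem_insert_of_mem hi)) (ht2I b (Finset.mem_insert_self _ _))
  have m3 : t2⁻¹ * s1 ∈ M := by
    refine hMa _ (Ω.mul_mem (Ω.inv_mem ht2) hs1Ω) (fun i hi => ?_) ?_
    · rw [IG_mul, hs1I i hi]
      exact inv_fix (ht2I i (Finset.mem_insert_of_mem hi))
    · rw [IG_mul, ← ht2a, IG_inv_apply]
  have e : s = t1 * (t2 * (t2⁻¹ * s1)) := by rw [hs1]; group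
  rw [e]
  exact M.mul_mem m1 (M.mul_mem m2 m3)

/-- `Ω` is generated by the stabilisers of two coordinate vectors -/
theorem gen_two (h2 : (2 : K) ≠ 0) (hκ : 8 ≤ Fintype.card κ) (M : Subgroup (IG K κ))
    (hM : ∀ i j, i ≠ j → ∀ g ∈ commutator (IG K κ), g (ee K i) = ee K i → g (ee K j) = ee K j → g ∈ M) :
    commutator (IG K κ) ≤ M := by
  have one : ∀ k, ∀ g ∈ commutator (IG K κ), g (ee K k) = ee K k → g ∈ M := by
    intro k g hg hgk
    obtain ⟨a, ha, b, hb, hab⟩ := Finset.one_lt_card.1 (show 1 < (({k} : Finset κ)ᶜ).card by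
      rw [Finset.card_compl, Finset.card_singleton]; omega)
    rw [Finset.mem_compl] at ha hb
    refine gen_step h2 {k} (by rw [Finset.card_singleton]; omega) M hab ha hb ?_ ?_ g hg ?_
    · intro g hg h1 h3
      exact hM a k (fun h => ha (by simp [h])) g hg h3 (h1 k (Finset.mem_singleton_self k))
    · intro g hg h1 h3
      exact hM b k (fun h => hb (by simp [h])) g hg h3 (h1 k (Finset.mem_singleton_self k))
    · intro i hi
      rw [Finset.mem_singleton.1 hi]; exact hgk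
  obtain ⟨a, b, hab⟩ : ∃ a b : κ, a ≠ b := Fintype.exists_pair_of_one_lt_card (by omega)
  intro g hg
  exact gen_step h2 ∅ (by rw [Finset.card_empty]; omega) M hab (by simp) (by simp)
    (fun g hg _ h => one a g hg h) (fun g hg _ h => one b g hg h) g hg (by simp)

end transit

end Cfsg.Agent.H210.DoRes
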