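import Cfsg.Agent.H210.DoRes.Count

/-!
# Commutators of lifts in a central extension given by a projective representation (helper210)
-/

set_option autoImplicit false

namespace Cfsg.Agent.H210.DoRes

open Module
open scoped commutatorElement

/-- `G` acts faithfully on `V`, `π : G → S` is surjective and its kernel is the set of elements acting as scalars -/
structure PR {F V G S : Type*} [Field F] [AddCommGroup V] [Module F V] [Group G] [Group S]
    (ρ : G →* (V ≃ₗ[F] V)) (π : G →* S) : Prop where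
  surj : Function.Surjective π
  scal : ∀ g, π g = 1 → ∃ a : F, ∀ v, ρ g v = a • v
  conv : ∀ g (a : F), (∀ v, ρ g v = a • v) → π g = 1
  inj : Function.Injective ρ

namespace PR

variable {F V G S : Type*} [Field F] [AddCommGroup V] [Module F V] [Group G] [Group S]
  {ρ : G →* (V ≃ₗ[F] V)} {π : G →* S}

theorem central (h : PR ρ π) {z : G} (hz : π z = 1) (g : G) : Commute z g := by
  obtain ⟨a, ha⟩ := h.scal z hz
  apply h.inj
  ext v
  rw [map_mul, map_mul, LinearEquiv.mul_apply, LinearEquiv.mul_apply, ha, ha, map_smul]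

/-- a lift -/
noncomputable def sec (h : PR ρ π) (s : S) : G := (h.surj s).choose

theorem π_sec (h : PR ρ π) (s : S) : π (h.sec s) = s := (h.surj s).choose_spec

/-- the commutator of any two lifts -/
noncomputable def cm (h : PR ρ π) (s t : S) : G := ⁅h.sec s, h.sec t⁆

theorem π_cm (h : PR ρ π) (s t : S) : π (h.cm s t) = ⁅s, t⁆ := by
  rw [cm, map_commutatorElement, h.π_sec, h.π_sec]

theorem exists_mul (_ : PR ρ π) {g g' : G} (hg : π g = π g') : ∃ z, π z = 1 ∧ g = z * g' :=
  ⟨g * g'⁻¹, by rw [map_mul, map_inv, hg, mul_inv_cancel], by rw [inv_mul_cancel_right]⟩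

theorem comm_congr (h : PR ρ π) {g g' k k' : G} (hg : π g = π g') (hk : π k = π k') : ⁅g, k⁆ = ⁅g', k'⁆ := by
  obtain ⟨z, hz, rfl⟩ := h.exists_mul hg
  obtain ⟨w, hw, rfl⟩ := h.exists_mul hk
  have cz := h.central hz
  have cw := h.central hw
  rw [commutatorElement_def, commutatorElement_def]
  have e1 : z * g' * (w * k') * (z * g')⁻¹ * (w * k')⁻¹ =
      z * w * (g' * k' * g'⁻¹ * z⁻¹ * k'⁻¹ * w⁻¹) := by
    rw [mul_inv_rev, mul_inv_rev]
    have : z * g' * (w * k') = z * w * (g' * k') := by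
      rw [mul_assoc, ← mul_assoc g' w, ← (cw g').eq]; simp only [mul_assoc]
    rw [this]
    simp only [mul_assoc]
  rw [e1]
  have c1 : Commute z (g' * k' * g'⁻¹) := cz _
  have c2 : Commute w (g' * k' * g'⁻¹ * k'⁻¹) := cw _
  have e2 : g' * k' * g'⁻¹ * z⁻¹ * k'⁻¹ = z⁻¹ * (g' * k' * g'⁻¹ * k'⁻¹) := by
    rw [← c1.inv_left.eq]
    simp only [mul_assoc]
  rw [e2]
  have e3 : z * w * (z⁻¹ * (g' * k' * g'⁻¹ * k'⁻¹) * w⁻¹) = z * (w * (z⁻¹ * ((g' * k' * g'⁻¹ * k'⁻¹) * w⁻¹))) := by
    simp only [mul_assoc]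
  rw [e3, ← c2.inv_left.eq]
  have c3 : Commute w z⁻¹ := cw _
  rw [← mul_assoc w, c3.eq, mul_assoc, mul_inv_cancel_left, mul_inv_cancel_left]

theorem comm_eq_cm (h : PR ρ π) {g k : G} {s t : S} (hg : π g = s) (hk : π k = t) : ⁅g, k⁆ = h.cm s t :=
  h.comm_congr (by rw [hg, h.π_sec]) (by rw [hk, h.π_sec])

theorem conj_cm (h : PR ρ π) (g : G) (s t : S) :
    g * h.cm s t * g⁻¹ = h.cm (π g * s * (π g)⁻¹) (π g * t * (π g)⁻¹) := by
  have e1 : π (g * h.sec s * g⁻¹) = π g * s * (π g)⁻¹ := by rw [map_mul, map_mul, map_inv, h.π_sec]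
  have e2 : π (g * h.sec t * g⁻¹) = π g * t * (π g)⁻¹ := by rw [map_mul, map_mul, map_inv, h.π_sec]
  rw [← h.comm_eq_cm e1 e2, cm, commutatorElement_def, commutatorElement_def]
  group

/-- a lift of an element commuting with `s` and `t` commutes with the commutator of the lifts of `s` and `t` -/
theorem commute_cm (h : PR ρ π) {g : G} {s t : S} (hs : Commute (π g) s) (ht : Commute (π g) t) :
    Commute g (h.cm s t) := by
  have e := h.conj_cm g s t
  rw [hs.eq, mul_inv_cancel_right, ht.eq, mul_inv_cancel_right] at e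
  exact mul_inv_eq_iff_eq_mul.1 e

theorem cm_one_of_commute (h : PR ρ π) {g k : G} (hc : Commute g k) : h.cm (π g) (π k) = 1 := by
  rw [← h.comm_eq_cm rfl rfl]
  exact commutatorElement_eq_one_iff_commute.2 hc

theorem commute_of_cm (h : PR ρ π) {g k : G} (hc : h.cm (π g) (π k) = 1) : Commute g k := by
  rw [← h.comm_eq_cm rfl rfl] at hc
  exact commutatorElement_eq_one_iff_commute.1 hc

/-- commuting elements: the commutator of lifts is central -/
theorem cm_ker (h : PR ρ π) {s t : S} (hc : Commute s t) : π (h.cm s t) = 1 := by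
  rw [h.π_cm, commutatorElement_eq_one_iff_commute.2 hc]

/-- `s² = 1`, `s` and `t` commute: the commutator of the lifts has square `1` -/
theorem cm_sq (h : PR ρ π) {s t : S} (hs : s * s = 1) (hc : Commute s t) : h.cm s t * h.cm s t = 1 := by
  set g := h.sec s with hg
  set k := h.sec t with hk
  have hz : h.cm s t = ⁅g, k⁆ := rfl
  set z := h.cm s t with hzd
  have cz := h.central (z := z) (h.cm_ker hc)
  have e1 : g * k * g⁻¹ = z * k := by rw [hz, commutatorElement_def]; group
  have e2 : Commute (g * g) k := h.central (by rw [map_mul, h.π_sec, hs]) k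
  have e3 : (g * g) * k * (g * g)⁻¹ = z * z * k := by
    calc (g * g) * k * (g * g)⁻¹ = g * (g * k * g⁻¹) * g⁻¹ := by group
      _ = g * (z * k) * g⁻¹ := by rw [e1]
      _ = z * (g * k * g⁻¹) := by rw [← mul_assoc g z, ← (cz g).eq]; group
      _ = z * z * k := by rw [e1, mul_assoc]
  rw [e2.eq, mul_inv_cancel_right] at e3
  exact (mul_eq_right.1 e3.symm)

end PR

end Cfsg.Agent.H210.DoRes
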