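import Mathlib

/-!
# Weight spaces of commuting involutions (helper210, task 3652 of S4785)

`c : κ → End V` pairwise commuting linear involutions, `2 ≠ 0`: `V` is the direct sum of the weight spaces
`W c J = {v | c i v = -v (i ∈ J), c i v = v (i ∉ J)}`, `J` a finite subset of `κ`.
-/

set_option autoImplicit false

namespace Cfsg.Agent.H210.DoRes

open Module Finset

section weights

variable {F V κ : Type*} [Field F] [AddCommGroup V] [Module F V] [DecidableEq κ]

/-- weight space -/
def W (c : κ → V →ₗ[F] V) (J : Finset κ) : Submodule F V where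
  carrier := {v | ∀ i, c i v = if i ∈ J then -v else v}
  add_mem' := by
    intro u v hu hv i
    rw [map_add, hu i, hv i]
    split_ifs <;> abel
  zero_mem' := by
    intro i; simp
  smul_mem' := by
    intro a v hv i
    rw [map_smul, hv i]
    split_ifs <;> simp

variable {c : κ → V →ₗ[F] V} {J : Finset κ} {v : V}

theorem mem_W : v ∈ W c J ↔ ∀ i, c i v = if i ∈ J then -v else v := Iff.rfl

theorem W_neg (h : v ∈ W c J) {i : κ} (hi : i ∈ J) : c i v = -v := by
  rw [h i, if_pos hi]

theorem W_pos (h : v ∈ W c J) {i : κ} (hi : i ∉ J) : c i v = v := by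
  rw [h i, if_neg hi]

theorem iSup_W [Fintype κ] (h2 : (2 : F) ≠ 0) (hc : ∀ i v, c i (c i v) = v)
    (hcc : ∀ i j v, c i (c j v) = c j (c i v)) : ⨆ J, W c J = ⊤ := by
  classical
  have key : ∀ (t : Finset κ) (v : V), (∀ i, i ∉ t → c i v = v ∨ c i v = -v) → v ∈ ⨆ J, W c J := by
    intro t
    induction t using Finset.induction_on with
    | empty =>
      intro v hv
      refine Submodule.mem_iSup_of_mem (Finset.univ.filter fun i => c i v = -v) ?_
      intro i
      by_cases h : c i v = -v
      · rw [if_pos (by simp [h]), h]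
      · rw [if_neg (by simp [h])]
        exact (hv i (by simp)).resolve_right h
    | insert j t hj ih =>
      intro v hv
      have e : v = (2 : F)⁻¹ • (v + c j v) + (2 : F)⁻¹ • (v - c j v) := by
        rw [← smul_add]
        have : v + c j v + (v - c j v) = (2 : F) • v := by rw [two_smul]; abel
        rw [this, smul_smul, inv_mul_cancel₀ h2, one_smul]
      rw [e]
      refine Submodule.add_mem _ (Submodule.smul_mem _ _ (ih _ fun i hi => ?_))
        (Submodule.smul_mem _ _ (ih _ fun i hi => ?_))
      · by_cases hij : i = j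
        · left
          rw [hij, map_add, hc, add_comm]
        · rcases hv i (by simp [hij, hi]) with h | h
          · left; rw [map_add, hcc, h]
          · right; rw [map_add, hcc, h, map_neg]; abel
      · by_cases hij : i = j
        · right
          rw [hij, map_sub, hc]; abel
        · rcases hv i (by simp [hij, hi]) with h | h
          · left; rw [map_sub, hcc, h]
          · right; rw [map_sub, hcc, h, map_neg]; abel
  exact eq_top_iff.2 fun v _ => key Finset.univ v fun i hi => absurd (Finset.mem_univ i) hi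

theorem indep_W (h2 : (2 : F) ≠ 0) (hcc : ∀ i j v, c i (c j v) = c j (c i v)) : iSupIndep (W c) := by
  have hne : (-1 : F) ≠ 1 := fun h => h2 (by
    have : (2 : F) = 1 - -1 := by norm_num
    rw [this, h, sub_self])
  have h := Module.End.independent_iInf_maxGenEigenspace_of_forall_mapsTo c (fun i j φ =>
    Module.End.mapsTo_maxGenEigenspace_of_comm (show Commute (c j) (c i) from
      LinearMap.ext fun v => hcc j i v) φ)
  have h' := h.comp (f := fun (J : Finset κ) (i : κ) => if i ∈ J then (-1 : F) else 1) (by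
    intro J J' hJ
    ext i
    have := congrFun hJ i
    simp only at this
    by_cases h1 : i ∈ J <;> by_cases h3 : i ∈ J' <;> simp [h1, h3] at this ⊢
    · exact hne this
    · exact hne this.symm)
  refine h'.mono fun J v hv => ?_
  show v ∈ ⨅ i, Module.End.maxGenEigenspace (c i) (if i ∈ J then (-1 : F) else 1)
  rw [Submodule.mem_iInf]
  intro i
  have h3 : v ∈ Module.End.eigenspace (c i) (if i ∈ J then (-1 : F) else 1) := by
    rw [Module.End.mem_eigenspace_iff, hv i]
    split_ifs <;> simp
  exact Module.End.genEigenspace_le_maximal _ _ 1 h3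

/-- the weight spaces contained in `U` -/
theorem sum_le [FiniteDimensional F V] [Fintype κ] (h2 : (2 : F) ≠ 0)
    (hcc : ∀ i j v, c i (c j v) = c j (c i v)) (T : Finset (Finset κ)) (U : Submodule F V)
    (hU : ∀ J ∈ T, W c J ≤ U) : ∑ J ∈ T, finrank F (W c J) ≤ finrank F U := by
  classical
  have hi := indep_W h2 hcc
  have key : ∀ T : Finset (Finset κ), finrank F (T.sup (W c) : Submodule F V) = ∑ J ∈ T, finrank F (W c J) := by
    intro T
    induction T using Finset.induction_on with
    | empty => simp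
    | insert J T hJ ih =>
      rw [Finset.sup_insert, Finset.sum_insert hJ, ← ih]
      have h1 := Submodule.finrank_sup_add_finrank_inf_eq (W c J) (T.sup (W c))
      have h3 : W c J ⊓ T.sup (W c) = ⊥ := by
        rw [← disjoint_iff]
        refine (hi J).mono_right (Finset.sup_le fun K hK => ?_)
        exact le_iSup₂_of_le K (fun h => hJ (h ▸ hK)) le_rfl
      rw [h3, finrank_bot, add_zero] at h1
      exact h1
  rw [← key]
  exact Submodule.finrank_mono (Finset.sup_le hU)

theorem sum_eq [FiniteDimensional F V] [Fintype κ] (h2 : (2 : F) ≠ 0) (hc : ∀ i v, c i (c i v) = v)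
    (hcc : ∀ i j v, c i (c j v) = c j (c i v)) : ∑ J : Finset κ, finrank F (W c J) = finrank F V := by
  classical
  have hi := indep_W h2 hcc
  have hs := iSup_W h2 hc hcc
  have key : ∀ T : Finset (Finset κ), finrank F (T.sup (W c) : Submodule F V) = ∑ J ∈ T, finrank F (W c J) := by
    intro T
    induction T using Finset.induction_on with
    | empty => simp
    | insert J T hJ ih =>
      rw [Finset.sup_insert, Finset.sum_insert hJ, ← ih]
      have h1 := Submodule.finrank_sup_add_finrank_inf_eq (W c J) (T.sup (W c))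
      have h3 : W c J ⊓ T.sup (W c) = ⊥ := by
        rw [← disjoint_iff]
        refine (hi J).mono_right (Finset.sup_le fun K hK => ?_)
        exact le_iSup₂_of_le K (fun h => hJ (h ▸ hK)) le_rfl
      rw [h3, finrank_bot, add_zero] at h1
      exact h1
  rw [← key, Finset.sup_univ_eq_iSup, hs, finrank_top]

/-- an invertible map permuting the `c i` up to sign moves the weight spaces -/
theorem finrank_W_eq {g : V ≃ₗ[F] V} {J J' : Finset κ} (h : ∀ v, v ∈ W c J ↔ g v ∈ W c J') :
    finrank F (W c J) = finrank F (W c J') := by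
  have e : (W c J).map (g : V →ₗ[F] V) = W c J' := by
    ext w
    constructor
    · rintro ⟨v, hv, rfl⟩
      exact (h v).1 hv
    · intro hw
      refine ⟨g.symm w, (h _).2 (by simpa using hw), by simp⟩
  rw [← e]
  exact (LinearEquiv.finrank_eq (g.submoduleMap (W c J)))

theorem mem_W_perm {g : V ≃ₗ[F] V} {σ : Equiv.Perm κ} (hg : ∀ i v, g (c i v) = c (σ i) (g v)) (J : Finset κ) (v : V) :
    v ∈ W c J ↔ g v ∈ W c (J.map σ.toEmbedding) := by
  constructor
  · intro hv i
    obtain ⟨j, rfl⟩ := σ.surjective i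
    rw [← hg, hv j]
    by_cases h : j ∈ J
    · rw [if_pos h, if_pos (by simpa using h), map_neg]
    · rw [if_neg h, if_neg (by simpa using h)]
  · intro hv i
    apply g.injective
    rw [hg, hv (σ i)]
    by_cases h : i ∈ J
    · rw [if_pos h, if_pos (by simpa using h), map_neg]
    · rw [if_neg h, if_neg (by simpa using h)]

/-- an invertible map which inverts exactly `c j` moves `W c J` to `W c (J ∆ {j})` -/
theorem mem_W_flip {g : V ≃ₗ[F] V} {j : κ} (hg : ∀ i, i ≠ j → ∀ v, g (c i v) = c i (g v))
    (hgj : ∀ v, g (c j v) = - c j (g v)) {J : Finset κ} (hj : j ∉ J) (v : V) :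
    v ∈ W c J ↔ g v ∈ W c (insert j J) := by
  constructor
  · intro hv i
    by_cases hij : i = j
    · subst hij
      rw [if_pos (Finset.mem_insert_self _ _), ← neg_eq_iff_eq_neg, ← hgj, W_pos hv hj]
    · rw [← hg i hij, hv i]
      by_cases h : i ∈ J
      · rw [if_pos h, if_pos (by simp [h]), map_neg]
      · rw [if_neg h, if_neg (by simp [h, hij])]
  · intro hv i
    apply g.injective
    by_cases hij : i = j
    · subst hij
      rw [hgj, W_neg hv (Finset.mem_insert_self _ _), neg_neg, if_neg hj]
    · rw [hg i hij, hv i]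
      by_cases h : i ∈ J
      · rw [if_pos h, if_pos (by simp [h]), map_neg]
      · rw [if_neg h, if_neg (by simp [h, hij])]

/-- all signs flipped independently: `2 ^ |κ| ∣ dim V` -/
theorem two_pow_dvd [FiniteDimensional F V] [Fintype κ] (h2 : (2 : F) ≠ 0) (hc : ∀ i v, c i (c i v) = v)
    (hcc : ∀ i j v, c i (c j v) = c j (c i v)) (s : κ → V ≃ₗ[F] V)
    (hs : ∀ i j, i ≠ j → ∀ v, s j (c i v) = c i (s j v)) (hsj : ∀ j v, s j (c j v) = - c j (s j v)) :
    2 ^ Fintype.card κ ∣ finrank F V := by
  classical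
  have h : ∀ J, finrank F (W c J) = finrank F (W c ∅) := by
    intro J
    induction J using Finset.induction_on with
    | empty => rfl
    | insert j J hj ih =>
      rw [← ih]
      exact (finrank_W_eq (g := s j) (mem_W_flip (fun i hi v => hs i j hi v) (hsj j) hj)).symm
  rw [← sum_eq h2 hc hcc, Finset.sum_congr rfl fun J _ => h J, Finset.sum_const, Finset.card_univ,
    Fintype.card_finset, smul_eq_mul]
  exact Dvd.intro _ rfl

/-- anticommuting injective maps: the dimension is even -/
theorem even_of_anticomm {U : Type*} [AddCommGroup U] [Module F U] [FiniteDimensional F U] (h2 : (2 : F) ≠ 0)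
    {a b : U →ₗ[F] U} (ha : Function.Injective a) (hb : Function.Injective b) (hab : ∀ v, a (b v) = -b (a v)) :
    Even (finrank F U) := by
  have hda : LinearMap.det a ≠ 0 := fun h =>
    (LinearMap.bot_lt_ker_of_det_eq_zero h).ne' (LinearMap.ker_eq_bot.2 ha)
  have hdb : LinearMap.det b ≠ 0 := fun h =>
    (LinearMap.bot_lt_ker_of_det_eq_zero h).ne' (LinearMap.ker_eq_bot.2 hb)
  by_contra ho
  rw [Nat.not_even_iff_odd] at ho
  have h1 : LinearMap.det (a * b) = LinearMap.det ((-1 : F) • (b * a)) := by
    congr 1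
    ext v
    rw [Module.End.mul_apply, hab, neg_one_smul, LinearMap.neg_apply, Module.End.mul_apply]
  rw [LinearMap.det_smul, ho.neg_one_pow, map_mul, map_mul] at h1
  have h4 : (2 : F) * (LinearMap.det a * LinearMap.det b) = 0 := by linear_combination h1
  rcases mul_eq_zero.1 h4 with h | h
  · exact h2 h
  · exact mul_ne_zero hda hdb h

theorem even_sub {U : Submodule F V} [FiniteDimensional F V] (h2 : (2 : F) ≠ 0)
    {a b : V →ₗ[F] V} (ha : Function.Injective a) (hb : Function.Injective b)
    (haU : ∀ v ∈ U, a v ∈ U) (hbU : ∀ v ∈ U, b v ∈ U) (hab : ∀ v ∈ U, a (b v) = -b (a v)) :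
    Even (finrank F U) := by
  refine even_of_anticomm h2 (a := a.restrict haU) (b := b.restrict hbU) ?_ ?_ ?_
  · intro x y hxy
    exact Subtype.ext (ha (congrArg Subtype.val hxy))
  · intro x y hxy
    exact Subtype.ext (hb (congrArg Subtype.val hxy))
  · intro v
    exact Subtype.ext (hab v v.2)

/-- two commuting pairs of anticommuting maps: the dimension is divisible by `4` -/
theorem four_dvd {U : Type*} [AddCommGroup U] [Module F U] [FiniteDimensional F U] (h2 : (2 : F) ≠ 0)
    {a b a' b' : U ≃ₗ[F] U} {ζ : F} (hζ : ζ ≠ 0) (haa : ∀ v, a (a' (a (a' v))) = (ζ * ζ) • v)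
    (hab : ∀ v, a (b v) = -b (a v)) (hab' : ∀ v, a' (b' v) = -b' (a' v))
    (h1 : ∀ v, a (a' v) = a' (a v)) (h3 : ∀ v, a (b' v) = b' (a v)) (h4 : ∀ v, a' (b v) = b (a' v)) :
    4 ∣ finrank F U := by
  classical
  set t : U →ₗ[F] U := ζ⁻¹ • ((a : U →ₗ[F] U) ∘ₗ (a' : U →ₗ[F] U)) with ht
  have htv : ∀ v, t v = ζ⁻¹ • a (a' v) := fun v => rfl
  have htt : ∀ v, t (t v) = v := by
    intro v
    rw [htv, htv, map_smul, map_smul, haa, smul_smul, smul_smul, ← mul_inv, inv_mul_cancel₀ (mul_ne_zero hζ hζ),
      one_smul]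
  have htb : ∀ v, b (t v) = - t (b v) := by
    intro v
    rw [htv, htv, map_smul, h4, hab, smul_neg, neg_neg]
  have htb' : ∀ v, b' (t v) = - t (b' v) := by
    intro v
    rw [htv, htv, map_smul, hab', map_neg, h3, smul_neg, neg_neg]
  set c : Unit → U →ₗ[F] U := fun _ => t with hcdef
  have hs := sum_eq (c := c) h2 (fun _ v => htt v) (fun _ _ v => rfl)
  have hu : (Finset.univ : Finset (Finset Unit)) = {∅, {()}} := by decide
  rw [hu, Finset.sum_pair (by decide)] at hs
  have he : finrank F (W c ∅) = finrank F (W c {()}) :=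
    finrank_W_eq (g := b) (mem_W_flip (fun i hi v => absurd rfl hi) (j := ()) htb (by simp))
  have hev : Even (finrank F (W c ∅)) := by
    refine even_sub h2 (a := (a : U →ₗ[F] U)) (b := (b : U →ₗ[F] U) ∘ₗ (b' : U →ₗ[F] U)) a.injective
      (b.injective.comp b'.injective) ?_ ?_ ?_
    · intro v hv i
      have hv' : t v = v := by simpa using hv i
      rw [if_neg (by simp)]
      show t (a v) = a v
      conv_rhs => rw [← hv']
      rw [htv, htv, map_smul, h1 v]
    · intro v hv i
      have hv' : t v = v := by simpa using hv i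
      rw [if_neg (by simp)]
      show t (b (b' v)) = b (b' v)
      conv_rhs => rw [← hv']
      rw [htb', map_neg, htb, neg_neg]
    · intro v _
      show a (b (b' v)) = - b (b' (a v))
      rw [hab, h3]
  obtain ⟨k, hk⟩ := hev
  rw [← hs, ← he, hk]
  exact ⟨k, by ring⟩

theorem four_dvd_sub {U : Submodule F V} [FiniteDimensional F V] (h2 : (2 : F) ≠ 0)
    {a b a' b' : V ≃ₗ[F] V} {ζ : F} (hζ : ζ ≠ 0)
    (haU : ∀ v ∈ U, a v ∈ U) (hbU : ∀ v ∈ U, b v ∈ U) (haU' : ∀ v ∈ U, a' v ∈ U) (hbU' : ∀ v ∈ U, b' v ∈ U)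
    (haa : ∀ v ∈ U, a (a' (a (a' v))) = (ζ * ζ) • v)
    (hab : ∀ v ∈ U, a (b v) = -b (a v)) (hab' : ∀ v ∈ U, a' (b' v) = -b' (a' v))
    (h1 : ∀ v ∈ U, a (a' v) = a' (a v)) (h3 : ∀ v ∈ U, a (b' v) = b' (a v)) (h4 : ∀ v ∈ U, a' (b v) = b (a' v)) :
    4 ∣ finrank F U := by
  have inj : ∀ (g : V ≃ₗ[F] V) (hg : ∀ v ∈ U, (g : V →ₗ[F] V) v ∈ U), Function.Injective ((g : V →ₗ[F] V).restrict hg) :=
    fun g hg x y hxy => Subtype.ext (g.injective (congrArg Subtype.val hxy))
  exact four_dvd h2 (a := LinearEquiv.ofInjectiveEndo _ (inj a haU)) (b := LinearEquiv.ofInjectiveEndo _ (inj b hbU))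
    (a' := LinearEquiv.ofInjectiveEndo _ (inj a' haU')) (b' := LinearEquiv.ofInjectiveEndo _ (inj b' hbU')) hζ
    (fun v => Subtype.ext (haa v v.2)) (fun v => Subtype.ext (hab v v.2)) (fun v => Subtype.ext (hab' v v.2))
    (fun v => Subtype.ext (h1 v v.2)) (fun v => Subtype.ext (h3 v v.2)) (fun v => Subtype.ext (h4 v v.2))

/-- a product (along a list) of the `c i` on a weight space -/
theorem list_prod_apply {G : Type*} [Group G] {ρ : G →* (V ≃ₗ[F] V)} {C : κ → G} {J : Finset κ} {v : V}
    {θ : F} (hv : ∀ i, ρ (C i) v = (if i ∈ J then -θ else θ) • v) (l : List κ) :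
    ρ (l.map C).prod v = (l.map fun i => if i ∈ J then -θ else θ).prod • v := by
  induction l with
  | nil => simp
  | cons i l ih =>
    rw [List.map_cons, List.prod_cons, map_mul, LinearEquiv.mul_apply, ih, map_smul, hv, smul_smul,
      List.map_cons, List.prod_cons, mul_comm]

theorem list_prod_sign [Fintype κ] (J : Finset κ) (θ : F) :
    ((Finset.univ : Finset κ).toList.map fun i => if i ∈ J then -θ else θ).prod =
      (-1) ^ J.card * θ ^ Fintype.card κ := by
  rw [Finset.prod_map_toList]
  have : ∀ i : κ, (if i ∈ J then -θ else θ) = (if i ∈ J then (-1 : F) else 1) * θ := by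
    intro i; split_ifs <;> ring
  rw [Finset.prod_congr rfl fun i _ => this i, Finset.prod_mul_distrib, Finset.prod_const, Finset.card_univ,
    Finset.prod_ite_mem, Finset.univ_inter, Finset.prod_const]

end weights

end Cfsg.Agent.H210.DoRes
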